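import Mathlib
import Cfsg.Prelude.Def_LieExceptional

/-!
Elementary structure of a Zassenhaus group (`Cfsg.IsZassenhausGroup`).
-/

set_option autoImplicit false

open scoped Pointwise

namespace Cfsg.Agent.CharactersDeep.Zassenhaus

universe u v

variable {G : Type u} {Ω : Type v} [Group G] [MulAction G Ω]

theorem faithful (hZ : Cfsg.IsZassenhausGroup G Ω) : FaithfulSMul G Ω := hZ.1

theorem two_trans (hZ : Cfsg.IsZassenhausGroup G Ω) {a b c d : Ω} (hab : a ≠ b) (hcd : c ≠ d) :
    ∃ g : G, g • a = c ∧ g • b = d :=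
  MulAction.is_two_pretransitive_iff.mp hZ.2.1 hab hcd

theorem eq_one_of_fix_three (hZ : Cfsg.IsZassenhausGroup G Ω) {g : G} {a b c : Ω} (hab : a ≠ b)
    (hbc : b ≠ c) (hac : a ≠ c) (ha : g • a = a) (hb : g • b = b) (hc : g • c = c) : g = 1 :=
  hZ.2.2.1 g a b c hab hbc hac ha hb hc

theorem three_le_card [Fintype Ω] (hZ : Cfsg.IsZassenhausGroup G Ω) : 3 ≤ Fintype.card Ω := by
  classical
  obtain ⟨g, hg, a, b, hab, ha, hb⟩ := hZ.2.2.2.1
  have := hZ.1
  obtain ⟨c, hc⟩ : ∃ c : Ω, g • c ≠ c := by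
    by_contra hne
    push_neg at hne
    exact hg (eq_of_smul_eq_smul fun c : Ω => by rw [hne c, one_smul])
  have h3 : ({a, b, c} : Finset Ω).card = 3 := by
    have hca : a ≠ c := fun h => hc (h ▸ ha)
    have hcb : b ≠ c := fun h => hc (h ▸ hb)
    simp [hab, hca, hcb]
  exact h3 ▸ Finset.card_le_univ _

theorem exists_ne (hZ : Cfsg.IsZassenhausGroup G Ω) (a : Ω) : ∃ b : Ω, b ≠ a := by
  obtain ⟨g, hg, c, d, hcd, -, -⟩ := hZ.2.2.2.1
  rcases eq_or_ne c a with h | h
  · exact ⟨d, fun hd => hcd (h.trans hd.symm)⟩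
  · exact ⟨c, h⟩

/-- The two-point stabilizers are non-trivial. -/
theorem two_point_ne_bot (hZ : Cfsg.IsZassenhausGroup G Ω) {a b : Ω} (hab : a ≠ b) :
    (MulAction.stabilizer G a ⊓ MulAction.stabilizer G b : Subgroup G) ≠ ⊥ := by
  obtain ⟨g, hg, c, d, hcd, hc, hd⟩ := hZ.2.2.2.1
  obtain ⟨x, hxc, hxd⟩ := two_trans hZ hcd hab
  intro hbot
  have hmem : x * g * x⁻¹ ∈ (MulAction.stabilizer G a ⊓ MulAction.stabilizer G b : Subgroup G) := by
    refine ⟨?_, ?_⟩
    · show (x * g * x⁻¹) • a = a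
      rw [← hxc, ← mul_smul, inv_mul_cancel_right, mul_smul, hc]
    · show (x * g * x⁻¹) • b = b
      rw [← hxd, ← mul_smul, inv_mul_cancel_right, mul_smul, hd]
  rw [hbot, Subgroup.mem_bot] at hmem
  exact hg (conj_eq_one_iff.mp hmem)

/-- Elements of `H` other than `1` are exactly the elements of the stabilizer of `a` fixing no
other point. -/
theorem mem_of_fix_only [Finite G] [Fintype Ω] (hZ : Cfsg.IsZassenhausGroup G Ω) (a : Ω)
    (H : Subgroup G) (hHa : H ≤ MulAction.stabilizer G a) (hHcard : Nat.card H + 1 = Fintype.card Ω)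
    (hHfix : ∀ u ∈ H, u ≠ 1 → ∀ c : Ω, u • c = c → c = a) {g : G} (hga : g • a = a)
    (hg : ∀ c : Ω, g • c = c → c = a) : g ∈ H := by
  classical
  have := Fintype.ofFinite G
  set S := MulAction.stabilizer G a with hS
  let X := {c : Ω // c ≠ a}
  letI act : MulAction S X :=
    { smul := fun s c => ⟨(s : G) • c.1, fun h => c.2 (by
        have hs : (s : G) • a = a := s.2
        exact smul_left_cancel (s : G) (h.trans hs.symm))⟩
      one_smul := fun c => Subtype.ext (one_smul G c.1)
      mul_smul := fun s t c => Subtype.ext (mul_smul (s : G) (t : G) c.1) }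
  have hval : ∀ (s : S) (c : X), (s • c).1 = (s : G) • c.1 := fun _ _ => rfl
  have hX : Fintype.card X + 1 = Fintype.card Ω := by
    have : 0 < Fintype.card Ω := Fintype.card_pos_iff.mpr ⟨a⟩
    simp only [X, Fintype.card_subtype_compl, Fintype.card_unique]
    omega
  haveI : MulAction.IsPretransitive S X := ⟨fun c d => by
    obtain ⟨x, hxc, hxa⟩ := two_trans hZ c.2 d.2
    exact ⟨⟨x, hxa⟩, Subtype.ext hxc⟩⟩
  haveI : Nonempty X := by
    obtain ⟨b, hb⟩ := exists_ne hZ a
    exact ⟨⟨b, hb⟩⟩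
  have hburn : ∑ s : S, Fintype.card (MulAction.fixedBy X s) = Fintype.card S := by
    rw [MulAction.sum_card_fixedBy_eq_card_orbits_mul_card_group]
    haveI : Subsingleton (MulAction.orbitRel.Quotient S X) :=
      (MulAction.pretransitive_iff_subsingleton_quotient S X).mp ‹_›
    haveI : Nonempty (MulAction.orbitRel.Quotient S X) :=
      Nonempty.map (Quotient.mk _) ‹Nonempty X›
    rw [Fintype.card_eq_one_iff.mpr ⟨Classical.arbitrary _, fun _ => Subsingleton.elim _ _⟩, one_mul]
  -- non-identity elements fix at most one point of `X`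
  have hle : ∀ s : S, s ≠ 1 → Fintype.card (MulAction.fixedBy X s) ≤ 1 := by
    intro s hs
    refine Fintype.card_le_one_iff.mpr fun c d => ?_
    by_contra hne
    apply hs
    apply Subtype.ext
    refine eq_one_of_fix_three hZ (a := c.1.1) (b := d.1.1) (c := a)
      (fun h => hne (Subtype.ext (Subtype.ext h))) d.1.2 c.1.2 ?_ ?_ s.2
    · exact congrArg Subtype.val c.2
    · exact congrArg Subtype.val d.2
  set F : Finset S := Finset.univ.filter fun s => s ≠ 1 ∧ Fintype.card (MulAction.fixedBy X s) = 0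
  set E : Finset S := Finset.univ.filter fun s => s ≠ 1 ∧ Fintype.card (MulAction.fixedBy X s) = 1
  have hsum : Fintype.card X + E.card = Fintype.card S := by
    rw [← hburn, ← Finset.add_sum_erase _ _ (Finset.mem_univ (1 : S))]
    congr 1
    · refine (Fintype.card_congr (Equiv.subtypeUnivEquiv fun c => ?_)).symm
      exact one_smul S c
    · rw [Finset.card_filter, ← Finset.add_sum_erase _ _ (Finset.mem_univ (1 : S))]
      simp only [ne_eq, not_true_eq_false, false_and, if_false, zero_add]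
      refine Finset.sum_congr rfl fun s hs => ?_
      have hs1 := (Finset.mem_erase.mp hs).1
      have := hle s hs1
      simp only [hs1, not_false_eq_true, true_and]
      split_ifs <;> omega
  have hpart : F.card + E.card + 1 = Fintype.card S := by
    rw [← Finset.card_union_of_disjoint (Finset.disjoint_filter.mpr fun s _ h1 h2 => by omega)]
    have : F ∪ E = Finset.univ.erase 1 := by
      ext s
      simp only [F, E, Finset.mem_union, Finset.mem_filter, Finset.mem_univ, true_and,
        Finset.mem_erase, and_true]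
      constructor
      · tauto
      · intro hs
        rcases Nat.le_one_iff_eq_zero_or_eq_one.mp (hle s hs) with h | h
        · exact Or.inl ⟨hs, h⟩
        · exact Or.inr ⟨hs, h⟩
    rw [this, Finset.card_erase_of_mem (Finset.mem_univ _), Finset.card_univ]
    have : 0 < Fintype.card S := Fintype.card_pos
    omega
  set T : Finset S := Finset.univ.filter fun s => s ≠ 1 ∧ (s : G) ∈ H
  have hT : T.card + 1 = Nat.card H := by
    have h1 : T = (Finset.univ.filter fun s : S => (s : G) ∈ H).erase 1 := by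
      ext s; simp [T]
    rw [h1, Finset.card_erase_add_one (by simp), ← Fintype.card_subtype, ← Nat.card_eq_fintype_card]
    exact Nat.card_congr (Subgroup.subgroupOfEquivOfLe hHa).toEquiv
  have hTF : T ⊆ F := by
    intro s hs
    simp only [T, F, Finset.mem_filter, Finset.mem_univ, true_and] at hs ⊢
    refine ⟨hs.1, Fintype.card_eq_zero_iff.mpr ⟨fun c => c.1.2 ?_⟩⟩
    exact hHfix _ hs.2 (fun h => hs.1 (Subtype.ext h)) _ (congrArg Subtype.val c.2)
  have heq : T = F := Finset.eq_of_subset_of_card_le hTF (by omega)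
  rcases eq_or_ne g 1 with rfl | hg1
  · exact H.one_mem
  have hmem : (⟨g, hga⟩ : S) ∈ F := by
    simp only [F, Finset.mem_filter, Finset.mem_univ, true_and]
    refine ⟨fun h => hg1 (congrArg Subtype.val h), Fintype.card_eq_zero_iff.mpr ⟨fun c => c.1.2 ?_⟩⟩
    exact hg _ (congrArg Subtype.val c.2)
  rw [← heq] at hmem
  exact (Finset.mem_filter.mp hmem).2.2

/-- `H` (fixing only `a`) has a non-identity element. -/
theorem exists_mem_ne_one [Finite G] [Fintype Ω] (hZ : Cfsg.IsZassenhausGroup G Ω)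
    (H : Subgroup G) (hHcard : Nat.card H + 1 = Fintype.card Ω) : ∃ u ∈ H, u ≠ 1 := by
  have := three_le_card hZ
  exact H.bot_or_exists_ne_one.resolve_left fun h => by
    rw [h, Subgroup.card_bot] at hHcard; omega

theorem kernel_TI (a : Ω) (H : Subgroup G) (hHa : H ≤ MulAction.stabilizer G a)
    (hHfix : ∀ u ∈ H, u ≠ 1 → ∀ c : Ω, u • c = c → c = a) {g u : G}
    (hg : g ∉ MulAction.stabilizer G a) (hu : u ∈ H) (hgu : g * u * g⁻¹ ∈ H) : u = 1 := by
  by_contra hu1
  apply hg
  show g • a = a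
  refine hHfix _ hgu (fun h => hu1 (conj_eq_one_iff.mp h)) _ ?_
  have hua : u • a = a := hHa hu
  rw [← mul_smul, inv_mul_cancel_right, mul_smul, hua]

theorem normalizer_kernel [Finite G] [Fintype Ω] (hZ : Cfsg.IsZassenhausGroup G Ω) (a : Ω)
    (H : Subgroup G) (hHa : H ≤ MulAction.stabilizer G a) (hHcard : Nat.card H + 1 = Fintype.card Ω)
    (hHfix : ∀ u ∈ H, u ≠ 1 → ∀ c : Ω, u • c = c → c = a) :
    Subgroup.normalizer (H : Set G) = MulAction.stabilizer G a := by
  ext g
  constructor
  · intro hg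
    obtain ⟨u, hu, hu1⟩ := exists_mem_ne_one hZ H hHcard
    by_contra hga
    exact hu1 (kernel_TI a H hHa hHfix hga hu ((Subgroup.mem_normalizer_iff.mp hg u).mp hu))
  · intro hga
    have key : ∀ x ∈ MulAction.stabilizer G a, ∀ h ∈ H, x * h * x⁻¹ ∈ H := by
      intro x hx h hh
      rcases eq_or_ne h 1 with rfl | h1
      · simpa using H.one_mem
      have hxa : x • a = a := hx
      refine mem_of_fix_only hZ a H hHa hHcard hHfix ?_ fun c hc => ?_
      · have hha : h • a = a := hHa hh
        have hxi : x⁻¹ • a = a := inv_smul_eq_iff.mpr hxa.symm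
        rw [mul_smul, mul_smul, hxi, hha, hxa]
      · have hc' : h • (x⁻¹ • c) = x⁻¹ • c := by
          rw [eq_inv_smul_iff, ← mul_smul, ← mul_smul]; exact hc
        have hxc := hHfix h hh h1 _ hc'
        rw [inv_smul_eq_iff] at hxc
        exact hxc.trans hxa
    refine Subgroup.mem_normalizer_iff.mpr fun h => ⟨key g hga h, fun hh => ?_⟩
    simpa [mul_assoc] using key g⁻¹ (inv_mem hga) _ hh

theorem two_point_TI (hZ : Cfsg.IsZassenhausGroup G Ω) {a b : Ω} (hab : a ≠ b) {g x : G}
    (hxa : x • a = a) (hxb : x • b = b) (hga : (g * x * g⁻¹) • a = a)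
    (hgb : (g * x * g⁻¹) • b = b) (hx : x ≠ 1) :
    (g • a = a ∧ g • b = b) ∨ (g • a = b ∧ g • b = a) := by
  have hy : g * x * g⁻¹ ≠ 1 := fun h => hx (conj_eq_one_iff.mp h)
  have h1 : (g * x * g⁻¹) • (g • a) = g • a := by
    rw [← mul_smul, inv_mul_cancel_right, mul_smul, hxa]
  have h2 : (g * x * g⁻¹) • (g • b) = g • b := by
    rw [← mul_smul, inv_mul_cancel_right, mul_smul, hxb]
  have key : ∀ c : Ω, (g * x * g⁻¹) • c = c → c = a ∨ c = b := by
    intro c hc
    by_contra hne
    push_neg at hne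
    exact hy (eq_one_of_fix_three hZ hab hne.2.symm hne.1.symm hga hgb hc)
  have hne : g • a ≠ g • b := fun h => hab (smul_left_cancel g h)
  rcases key _ h1 with h | h <;> rcases key _ h2 with h' | h'
  · exact absurd (h.trans h'.symm) hne
  · exact Or.inl ⟨h, h'⟩
  · exact Or.inr ⟨h, h'⟩
  · exact absurd (h.trans h'.symm) hne

theorem mem_normalizer_two_point (hZ : Cfsg.IsZassenhausGroup G Ω) {a b : Ω} (hab : a ≠ b)
    (g : G) : g ∈ Subgroup.normalizer
        ((MulAction.stabilizer G a ⊓ MulAction.stabilizer G b : Subgroup G) : Set G) ↔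
      (g • a = a ∧ g • b = b) ∨ (g • a = b ∧ g • b = a) := by
  constructor
  · intro hg
    obtain ⟨x, hx, hx1⟩ := Subgroup.bot_or_exists_ne_one _ |>.resolve_left (two_point_ne_bot hZ hab)
    have hgx := (Subgroup.mem_normalizer_iff.mp hg x).mp hx
    exact two_point_TI hZ hab hx.1 hx.2 hgx.1 hgx.2 hx1
  · intro h
    refine Subgroup.mem_normalizer_iff.mpr fun x => ?_
    have e : ∀ c : Ω, (g * x * g⁻¹) • c = c ↔ x • (g⁻¹ • c) = g⁻¹ • c := by
      intro c
      rw [eq_inv_smul_iff, mul_smul, mul_smul]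
    simp only [Subgroup.mem_inf, MulAction.mem_stabilizer_iff, e]
    rcases h with ⟨h1, h2⟩ | ⟨h1, h2⟩
    · rw [show g⁻¹ • a = a from inv_smul_eq_iff.mpr h1.symm,
        show g⁻¹ • b = b from inv_smul_eq_iff.mpr h2.symm]
    · rw [show g⁻¹ • a = b from inv_smul_eq_iff.mpr h2.symm,
        show g⁻¹ • b = a from inv_smul_eq_iff.mpr h1.symm]
      exact and_comm

end Cfsg.Agent.CharactersDeep.Zassenhaus
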